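import Groth.Prelude.Def_W4c3cyccovratcurvTree
import Mathlib.Combinatorics.SimpleGraph.Acyclic
import Mathlib.Combinatorics.SimpleGraph.Finite
import Mathlib.Tactic

/-!
Conic deformations connect all marked trees of the same size.
-/

set_option autoImplicit false

open W4c3cyccovratcurv

namespace Groth.Agent.ConicTree

variable {n k : ℕ}

/-- Move all branches at `w` to `u`, leaving `w` a leaf at `u`. -/
def absorb (G : SimpleGraph (Fin n)) (u w : Fin n) : SimpleGraph (Fin n) :=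
  SimpleGraph.fromRel fun a b =>
    (a = u ∧ b = w) ∨ (a ≠ w ∧ b ≠ w ∧ (G.Adj a b ∨ (a = u ∧ G.Adj w b)))

theorem absorb_adj (G : SimpleGraph (Fin n)) (u w a b : Fin n) :
    (absorb G u w).Adj a b ↔ a ≠ b ∧ (((a = u ∧ b = w) ∨ (b = u ∧ a = w)) ∨
      (a ≠ w ∧ b ≠ w ∧ (G.Adj a b ∨ (a = u ∧ G.Adj w b) ∨ (b = u ∧ G.Adj w a)))) := by
  simp only [absorb, SimpleGraph.fromRel_adj]
  constructor
  · rintro ⟨h, (h1 | ⟨h1, h2, h3 | h3⟩) | (h1 | ⟨h1, h2, h3 | h3⟩)⟩
    all_goals first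
      | exact ⟨h, Or.inl (Or.inl h1)⟩
      | exact ⟨h, Or.inl (Or.inr h1)⟩
      | exact ⟨h, Or.inr ⟨h1, h2, Or.inl h3⟩⟩
      | exact ⟨h, Or.inr ⟨h1, h2, Or.inr (Or.inl h3)⟩⟩
      | exact ⟨h, Or.inr ⟨h2, h1, Or.inl h3.symm⟩⟩
      | exact ⟨h, Or.inr ⟨h2, h1, Or.inr (Or.inr h3)⟩⟩
  · rintro ⟨h, (h1 | h1) | ⟨h1, h2, h3 | h3 | h3⟩⟩
    · exact ⟨h, Or.inl (Or.inl h1)⟩
    · exact ⟨h, Or.inr (Or.inl h1)⟩
    · exact ⟨h, Or.inl (Or.inr ⟨h1, h2, Or.inl h3⟩)⟩
    · exact ⟨h, Or.inl (Or.inr ⟨h1, h2, Or.inr h3⟩)⟩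
    · exact ⟨h, Or.inr (Or.inr ⟨h2, h1, Or.inr h3⟩)⟩

/-- The retraction. -/
def retract (u w : Fin n) (v : Fin n) : Fin n := if v = w then u else v

theorem absorb_retract {G : SimpleGraph (Fin n)} {u w : Fin n} (h : G.Adj u w) {a b : Fin n} (hab : G.Adj a b) :
    retract u w a = retract u w b ∨ (absorb G u w).Adj (retract u w a) (retract u w b) := by
  simp only [retract]
  by_cases ha : a = w
  · subst ha
    rw [if_pos rfl, if_neg hab.ne']
    by_cases hb : u = b
    · exact Or.inl hb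
    · exact Or.inr ((absorb_adj _ _ _ _ _).2 ⟨hb, Or.inr ⟨h.ne, hab.ne', Or.inr (Or.inl ⟨rfl, hab⟩)⟩⟩)
  · by_cases hb : b = w
    · subst hb
      rw [if_pos rfl, if_neg ha]
      by_cases hau : a = u
      · exact Or.inl hau
      · exact Or.inr ((absorb_adj _ _ _ _ _).2 ⟨hau, Or.inr ⟨ha, h.ne, Or.inr (Or.inr ⟨rfl, hab.symm⟩)⟩⟩)
    · rw [if_neg ha, if_neg hb]
      exact Or.inr ((absorb_adj _ _ _ _ _).2 ⟨hab.ne, Or.inr ⟨ha, hb, Or.inl hab⟩⟩)

theorem absorb_isTree {G : SimpleGraph (Fin n)} (hG : G.IsTree) {u w : Fin n} (h : G.Adj u w) :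
    (absorb G u w).IsTree := by
  classical
  have hw : (absorb G u w).Adj u w := (absorb_adj _ _ _ _ _).2 ⟨h.ne, Or.inl (Or.inl ⟨rfl, rfl⟩)⟩
  have hreach : ∀ v, (absorb G u w).Reachable v (retract u w v) := fun v => by
    simp only [retract]
    split
    · subst v; exact hw.symm.reachable
    · exact SimpleGraph.Reachable.rfl
  have hwalk : ∀ {a b : Fin n}, G.Walk a b → (absorb G u w).Reachable (retract u w a) (retract u w b) := by
    intro a b p
    induction p with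
    | nil => exact SimpleGraph.Reachable.rfl
    | cons hadj _ ih =>
      rcases absorb_retract h hadj with e | e
      · exact e ▸ ih
      · exact e.reachable.trans ih
  haveI : Nonempty (Fin n) := ⟨u⟩
  have hconn : (absorb G u w).Connected := ⟨fun a b =>
    (hreach a).trans ((hwalk (hG.1.preconnected a b).some).trans (hreach b).symm)⟩
  rw [SimpleGraph.isTree_iff_connected_and_card]
  refine ⟨hconn, le_antisymm ?_ hconn.card_vert_le_card_edgeSet_add_one⟩
  rw [← (SimpleGraph.isTree_iff_connected_and_card.1 hG).2]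
  let g : Sym2 (Fin n) → Sym2 (Fin n) := fun e => if e = s(u, w) then s(u, w) else Sym2.map (retract u w) e
  have hsub : (absorb G u w).edgeSet ⊆ g '' G.edgeSet := by
    intro e
    induction e using Sym2.ind with
    | _ a b =>
      rw [SimpleGraph.mem_edgeSet, absorb_adj]
      rintro ⟨hne, (⟨rfl, rfl⟩ | ⟨rfl, rfl⟩) | ⟨ha, hb, hh | ⟨rfl, hh⟩ | ⟨rfl, hh⟩⟩⟩
      · exact ⟨_, h, if_pos rfl⟩
      · exact ⟨s(b, a), h, by simp [g, Sym2.eq_swap]⟩
      · refine ⟨s(a, b), hh, ?_⟩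
        simp only [g]
        rw [if_neg (by simp [ha, hb]), Sym2.map_mk]
        simp [retract, ha, hb]
      · refine ⟨s(w, b), hh, ?_⟩
        simp only [g]
        rw [if_neg (by simp [hne.symm, ha.symm]), Sym2.map_mk]
        simp [retract, hb]
      · refine ⟨s(w, a), hh, ?_⟩
        simp only [g]
        rw [if_neg (by simp [hne, hb.symm]), Sym2.map_mk]
        simp [retract, ha, Sym2.eq_swap]
  exact Nat.add_le_add_right ((Nat.card_mono (Set.toFinite _) hsub).trans (Nat.card_image_le (Set.toFinite _))) 1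

theorem conicAdj_absorb (T : MarkedTree k) {u w : Fin T.n} (h : T.graph.Adj u w) :
    ConicAdj T ⟨T.n, absorb T.graph u w, absorb_isTree T.isTree h, fun i => retract u w (T.mark i)⟩ := by
  have hw : (absorb T.graph u w).Adj u w := (absorb_adj _ _ _ _ _).2 ⟨h.ne, Or.inl (Or.inl ⟨rfl, rfl⟩)⟩
  have e : contract T.graph u w = contract (absorb T.graph u w) u w := by
    ext ⟨a, ha⟩ ⟨b, hb⟩
    simp only [contract, SimpleGraph.fromRel_adj, absorb_adj, ne_eq, Subtype.mk.injEq]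
    refine and_congr_right fun hne => ?_
    constructor
    · rintro ((h1 | ⟨h1, h2⟩) | (h1 | ⟨h1, h2⟩))
      · exact Or.inl (Or.inl ⟨hne, Or.inr ⟨ha, hb, Or.inl h1⟩⟩)
      · exact Or.inl (Or.inl ⟨hne, Or.inr ⟨ha, hb, Or.inr (Or.inl ⟨h1, h2⟩)⟩⟩)
      · exact Or.inl (Or.inl ⟨hne, Or.inr ⟨ha, hb, Or.inl h1.symm⟩⟩)
      · exact Or.inl (Or.inl ⟨hne, Or.inr ⟨ha, hb, Or.inr (Or.inr ⟨h1, h2⟩)⟩⟩)
    · rintro ((⟨-, (⟨-, h1⟩ | ⟨-, h1⟩) | ⟨-, -, h1 | h1 | h1⟩⟩ | ⟨h0, -, (⟨-, h1⟩ | ⟨h1, -⟩) | ⟨h1, -, -⟩⟩) |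
        (⟨-, (⟨-, h1⟩ | ⟨-, h1⟩) | ⟨-, -, h1 | h1 | h1⟩⟩ | ⟨h0, -, (⟨-, h1⟩ | ⟨h1, -⟩) | ⟨h1, -, -⟩⟩))
      all_goals first
        | exact absurd h1 hb
        | exact absurd h1 ha
        | exact absurd rfl h1
        | exact absurd trivial h1
        | exact Or.inl (Or.inl h1)
        | exact Or.inl (Or.inr h1)
        | exact Or.inr (Or.inr h1)
        | exact absurd (h0.trans h1.symm) hne
        | exact absurd (h0.trans h1.symm) (Ne.symm hne)
        | exact Or.inr (Or.inl h1)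
  refine ⟨u, w, u, w, h, hw, ⟨Equiv.refl _, fun {a b} => by rw [e]; rfl⟩, rfl, fun i => ?_⟩
  change contractMark T.mark u w h.ne i = _
  simp only [contractMark, retract]
  by_cases hi : T.mark i = w
  · simp [hi, h.ne]
  · simp [hi]

theorem conicAdj_symm {T₁ T₂ : MarkedTree k} (h : ConicAdj T₁ T₂) : ConicAdj T₂ T₁ := by
  obtain ⟨u₁, w₁, u₂, w₂, h₁, h₂, φ, hφ, hm⟩ := h
  exact ⟨u₂, w₂, u₁, w₁, h₂, h₁, φ.symm, by rw [← hφ]; exact φ.symm_apply_apply _,
    fun i => by rw [← hm i]; exact φ.symm_apply_apply _⟩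

/-- A vertex which is an unmarked leaf at the centre. -/
def Good (G : SimpleGraph (Fin n)) (m : Fin k → Fin n) (c v : Fin n) : Prop :=
  (∀ x, G.Adj v x ↔ x = c) ∧ ∀ i, m i ≠ v

theorem exists_star (N : ℕ) : ∀ (n : ℕ) (G : SimpleGraph (Fin n)) (hG : G.IsTree) (m : Fin k → Fin n) (c : Fin n),
    Set.ncard {v | v ≠ c ∧ ¬ Good G m c v} ≤ N →
      ∃ (H : SimpleGraph (Fin n)) (hH : H.IsTree), (∀ a b, H.Adj a b ↔ a ≠ b ∧ (a = c ∨ b = c)) ∧
        Relation.ReflTransGen ConicAdj (⟨n, G, hG, m⟩ : MarkedTree k) ⟨n, H, hH, fun _ => c⟩ := by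
  induction N with
  | zero =>
    intro n G hG m c hN
    have he : ∀ v, v ≠ c → Good G m c v := fun v hv => by
      by_contra h
      have : v ∈ (∅ : Set (Fin n)) := (Set.ncard_eq_zero (Set.toFinite _)).1 (Nat.le_zero.1 hN) ▸ ⟨hv, h⟩
      exact this
    refine ⟨G, hG, fun a b => ⟨fun h => ⟨h.ne, ?_⟩, fun ⟨hne, h⟩ => ?_⟩, ?_⟩
    · by_cases ha : a = c
      · exact Or.inl ha
      · exact Or.inr (((he a ha).1 b).1 h)
    · rcases h with rfl | rfl
      · exact (((he b hne.symm).1 _).2 rfl).symm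
      · exact ((he a hne).1 _).2 rfl
    · have : m = fun _ => c := funext fun i => by_contra fun h => (he _ h).2 i rfl
      subst this
      exact Relation.ReflTransGen.refl
  | succ N ih =>
    intro n G hG m c hN
    by_cases hb : ∃ w, G.Adj c w ∧ ¬ Good G m c w
    · obtain ⟨w, hcw, hw⟩ := hb
      obtain ⟨H, hH, hs, hr⟩ := ih n (absorb G c w) (absorb_isTree hG hcw) (fun i => retract c w (m i)) c (by
        have hlt : {v | v ≠ c ∧ ¬ Good (absorb G c w) (fun i => retract c w (m i)) c v} ⊂ {v | v ≠ c ∧ ¬ Good G m c v} := by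
          refine Set.ssubset_iff_subset_ne.2 ⟨fun v ⟨hv, hg⟩ => ⟨hv, fun g => hg ?_⟩, fun e => ?_⟩
          · have hvw : v ≠ w := fun e => hw (e ▸ g)
            refine ⟨fun x => ?_, fun i hi => g.2 i ?_⟩
            · rw [absorb_adj]
              constructor
              · rintro ⟨-, (⟨h1, -⟩ | ⟨-, h1⟩) | ⟨-, -, h1 | ⟨h1, -⟩ | ⟨h1, -⟩⟩⟩
                · exact absurd h1 hv
                · exact absurd h1 hvw
                · exact (g.1 x).1 h1
                · exact absurd h1 hv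
                · exact h1
              · rintro rfl
                exact ⟨hv, Or.inr ⟨hvw, hcw.ne, Or.inl ((g.1 _).2 rfl)⟩⟩
            · by_contra h'
              simp only [retract] at hi
              split at hi
              · exact hv hi.symm
              · exact h' hi
          · have hmem : w ∈ {v | v ≠ c ∧ ¬ Good G m c v} := ⟨hcw.ne', hw⟩
            rw [← e] at hmem
            refine hmem.2 ⟨fun x => ?_, fun i hi => ?_⟩
            · rw [absorb_adj]
              constructor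
              · rintro ⟨-, (⟨h1, -⟩ | ⟨h1, -⟩) | ⟨h1, -, -⟩⟩
                · exact absurd h1 hcw.ne'
                · exact h1
                · exact absurd rfl h1
              · rintro rfl
                exact ⟨hcw.ne', Or.inl (Or.inr ⟨rfl, rfl⟩)⟩
            · simp only [retract] at hi
              split at hi
              · exact hcw.ne hi
              · exact absurd hi ‹_›
        have := Set.ncard_lt_ncard hlt (Set.toFinite _)
        omega)
      exact ⟨H, hH, hs, Relation.ReflTransGen.head (conicAdj_absorb ⟨n, G, hG, m⟩ hcw) hr⟩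
    · push Not at hb
      refine ih n G hG m c (le_trans (le_of_eq ?_) (Nat.zero_le N))
      rw [Set.ncard_eq_zero (Set.toFinite _)]
      refine Set.eq_empty_iff_forall_notMem.2 fun v ⟨hv, hg⟩ => ?_
      have key : ∀ {a b : Fin n}, G.Walk a b → (a = c ∨ G.Adj c a) → (b = c ∨ G.Adj c b) := by
        intro a b p
        induction p with
        | nil => exact id
        | cons hadj _ ih' =>
          intro h
          refine ih' ?_
          rcases h with rfl | h
          · exact Or.inr hadj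
          · exact Or.inl (((hb _ h).1 _).1 hadj)
      rcases key (hG.1.preconnected c v).some (Or.inl rfl) with e | e
      · exact hv e
      · exact hg (hb v e)

theorem reflTransGen_of_card_eq (T₁ T₂ : MarkedTree k) (h : T₁.n = T₂.n) :
    Relation.ReflTransGen ConicAdj T₁ T₂ := by
  obtain ⟨n, G₁, hG₁, m₁⟩ := T₁
  obtain ⟨n', G₂, hG₂, m₂⟩ := T₂
  obtain rfl : n = n' := h
  obtain ⟨c⟩ := hG₁.1.nonempty
  obtain ⟨H₁, hH₁, hs₁, hr₁⟩ := exists_star _ n G₁ hG₁ m₁ c le_rfl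
  obtain ⟨H₂, hH₂, hs₂, hr₂⟩ := exists_star _ n G₂ hG₂ m₂ c le_rfl
  obtain rfl : H₁ = H₂ := by ext a b; rw [hs₁, hs₂]
  refine hr₁.trans ?_
  exact Relation.ReflTransGen.mono (fun a b hab => conicAdj_symm hab) _ _ (Relation.reflTransGen_swap.1 hr₂)

end Groth.Agent.ConicTree
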